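import Cfsg.Agent.SmallDegree.Bound
import Cfsg.Agent.Char.Constituents
import Cfsg.Agent.Char.Kernel
import Cfsg.Agent.Char.Central
import Cfsg.Agent.Char.Equivalence

/-!
# A faithful character of degree `(p - 1) / 2`

A prime `p` dividing the order once, no normal subgroup of order `p` and a faithful representation
of degree `(p - 1) / 2`: the representation is irreducible, also on every subgroup containing an
element of order `p` whose group is not normal in that subgroup.
-/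

set_option autoImplicit false
set_option linter.unusedSectionVars false
set_option linter.style.haveILetI false

namespace CfsgLib.HalfDegree

open Finset CfsgLib.Char

universe u

variable {G : Type u} [Group G] [Finite G] {p : ℕ} [hp : Fact p.Prime]

/-- The hypotheses. -/
structure Hyp (p : ℕ) {G : Type u} [Group G] (x : G) {n : ℕ}
    (σ : Representation ℂ G (Fin n → ℂ)) : Prop where
  sq : ¬ p ^ 2 ∣ Nat.card G
  hx : orderOf x = p
  nn : ∀ H : Subgroup G, H.Normal → Nat.card H ≠ p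
  inj : Function.Injective σ
  deg : 2 * n + 1 = p
  p5 : 5 ≤ p

/-- Two subgroups of order `p` are conjugate, and in a normal subgroup together. -/
theorem eq_zpowers_of_normal {x : G} (hx : orderOf x = p) (hsq : ¬ p ^ 2 ∣ Nat.card G)
    {K : Subgroup G} [hK : K.Normal] (hd : p ∣ Nat.card K) : x ∈ K := by
  obtain ⟨⟨w, hw⟩, hwo⟩ := exists_prime_orderOf_dvd_card' p hd
  have hwo' : orderOf w = p := by rw [← hwo, ← Subgroup.orderOf_coe]
  obtain ⟨Q, hQ⟩ := (IsPGroup.of_card (n := 1) (by rw [Nat.card_zpowers, hwo', pow_one]) :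
    IsPGroup p (Subgroup.zpowers w)).exists_le_sylow
  obtain ⟨R, hR⟩ := (IsPGroup.of_card (n := 1) (by rw [Nat.card_zpowers, hx, pow_one]) :
    IsPGroup p (Subgroup.zpowers x)).exists_le_sylow
  have hQc : Nat.card (Q : Subgroup G) ≤ p := by
    obtain ⟨m, hm⟩ := Q.2.exists_card_eq
    have hm1 : m ≤ 1 := by
      by_contra hlt
      exact hsq ((pow_dvd_pow p (by omega : 2 ≤ m)).trans (hm ▸ Subgroup.card_subgroup_dvd_card _))
    rw [hm]
    exact (pow_le_pow_right₀ hp.out.one_le hm1).trans_eq (pow_one p)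
  have hQw : Subgroup.zpowers w = (Q : Subgroup G) :=
    Subgroup.eq_of_le_of_card_ge hQ (by rwa [Nat.card_zpowers, hwo'])
  obtain ⟨a, ha⟩ := MulAction.exists_smul_eq G Q R
  have hxR : x ∈ ((a • Q : Sylow p G) : Subgroup G) := by rw [ha]; exact hR (Subgroup.mem_zpowers x)
  obtain ⟨y, hy, rfl⟩ := hxR
  exact hK.conj_mem _ ((Subgroup.zpowers_le.2 hw) (hQw ▸ hy)) a

/-- A representation of degree below `(p - 1) / 2` makes `⟨x⟩` normal modulo its kernel. -/
theorem normal_sup_ker {m : ℕ} (ρ : Representation ℂ G (Fin m → ℂ)) {x : G} (hx : orderOf x = p)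
    (hsq : ¬ p ^ 2 ∣ Nat.card G) (hm : 2 * m + 1 < p) :
    (Subgroup.zpowers x ⊔ MonoidHom.ker ρ).Normal := by
  classical
  haveI : (MonoidHom.ker ρ).Normal := MonoidHom.normal_ker ρ
  by_cases hxK : x ∈ MonoidHom.ker ρ
  · rw [sup_eq_right.2 (Subgroup.zpowers_le.2 hxK)]
    infer_instance
  obtain ⟨K, hK⟩ : ∃ K, K = MonoidHom.ker ρ := ⟨_, rfl⟩
  haveI : K.Normal := hK ▸ inferInstance
  rw [← hK] at hxK ⊢
  have hsqQ : ¬ p ^ 2 ∣ Nat.card (G ⧸ K) := fun hd => hsq (hd.trans (Subgroup.card_quotient_dvd_card K))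
  have hxo : orderOf ((x : G ⧸ K)) = p :=
    orderOf_eq_prime (by rw [← QuotientGroup.mk_pow, ← hx, pow_orderOf_eq_one, QuotientGroup.mk_one])
      fun h1 => hxK ((QuotientGroup.eq_one_iff x).1 h1)
  obtain ⟨H, hH, hHc⟩ : ∃ H : Subgroup (G ⧸ K), H.Normal ∧ Nat.card H = p := by
    by_contra hall
    push Not at hall
    let ρ' : Representation ℂ (G ⧸ K) (Fin m → ℂ) := QuotientGroup.lift K ρ hK.le
    have h1 := CfsgLib.SmallDegree.le_two_mul_add_one (hxo ▸ orderOf_dvd_natCard _) hsqQ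
      (fun H hH => hall H hH) (χ := ρ'.character) ⟨m, ρ', rfl⟩ (fun g hg => ?_) (n := m)
      (by rw [Representation.char_one, Module.finrank_fin_fun])
    · omega
    obtain ⟨g, rfl⟩ := QuotientGroup.mk_surjective g
    rw [QuotientGroup.eq_one_iff, hK, MonoidHom.mem_ker]
    refine apply_eq_one_of_character_eq ρ ?_
    rw [Representation.char_one] at hg
    exact hg
  have hxH : (x : G ⧸ K) ∈ H := by
    haveI := hH
    exact eq_zpowers_of_normal hxo hsqQ (by rw [hHc])
  have hz : Subgroup.zpowers (x : G ⧸ K) = H :=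
    Subgroup.eq_of_le_of_card_ge (Subgroup.zpowers_le.2 hxH) (by rw [hHc, Nat.card_zpowers, hxo])
  have : Subgroup.zpowers x ⊔ K = H.comap (QuotientGroup.mk' K) := by
    rw [← hz, ← QuotientGroup.mk'_apply K x, ← MonoidHom.map_zpowers, Subgroup.comap_map_eq,
      QuotientGroup.ker_mk']
  rw [this]
  exact hH.comap _

/-- **Irreducibility.** -/
theorem irreducible {x : G} {n : ℕ} {σ : Representation ℂ G (Fin n → ℂ)} (h : Hyp p x σ) :
    Cfsg.IsIrrCharacter G σ.character := by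
  classical
  haveI := Fintype.ofFinite G
  have hp5 := h.p5
  have hdeg := h.deg
  have hc : Cfsg.IsCharacter G σ.character := ⟨n, σ, rfl⟩
  have hσ1 : σ.character 1 = n := by rw [Representation.char_one, Module.finrank_fin_fun]
  have hne : σ.character ≠ 0 := fun h0 => by
    rw [h0, Pi.zero_apply, eq_comm, Nat.cast_eq_zero] at hσ1
    omega
  obtain ⟨ψ, hψ, hψc⟩ := IsCharacter.exists_constituent hc hne
  obtain ⟨m₁, ρ₁, hρ₁, rfl⟩ := id hψ
  obtain ⟨m₂, ρ₂, hρ₂⟩ := IsCharacter.sub_irr hc hψ hψc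
  have hm₁ : ρ₁.character 1 = m₁ := by rw [Representation.char_one, Module.finrank_fin_fun]
  have hm₂ : ρ₂.character 1 = m₂ := by rw [Representation.char_one, Module.finrank_fin_fun]
  rw [hρ₂, Pi.sub_apply, hσ1, hm₁, sub_eq_iff_eq_add] at hm₂
  have hsum : n = m₂ + m₁ := by exact_mod_cast hm₂
  rcases Nat.eq_zero_or_pos m₂ with h0 | h0
  · rw [IsCharacter.eq_of_constituent hc hψ hψc (by rw [hσ1, hm₁, hsum, h0, zero_add])]
    exact hψ
  exfalso
  have hm10 : 0 < m₁ := by
    refine Nat.pos_of_ne_zero fun h1 => IsIrrCharacter.apply_one_ne_zero hψ ?_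
    rw [hm₁, h1, Nat.cast_zero]
  haveI hN1 := normal_sup_ker ρ₁ h.hx h.sq (by omega)
  haveI hN2 := normal_sup_ker ρ₂ h.hx h.sq (by omega)
  obtain ⟨N, hN⟩ : ∃ N, N = (Subgroup.zpowers x ⊔ MonoidHom.ker ρ₁) ⊓
      (Subgroup.zpowers x ⊔ MonoidHom.ker ρ₂) := ⟨_, rfl⟩
  have hNn : N.Normal := hN ▸ inferInstance
  have hxN : x ∈ N := hN ▸ ⟨Subgroup.mem_sup_left (Subgroup.mem_zpowers x),
    Subgroup.mem_sup_left (Subgroup.mem_zpowers x)⟩
  have hpow : ∀ {m : ℕ} (ρ : Representation ℂ G (Fin m → ℂ)) (g : G),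
      g ∈ Subgroup.zpowers x ⊔ MonoidHom.ker ρ → ρ (g ^ p) = 1 := by
    intro m ρ g hg
    haveI : (MonoidHom.ker ρ).Normal := MonoidHom.normal_ker ρ
    rw [Subgroup.mem_sup_of_normal_right] at hg
    obtain ⟨a, ha, b, hb, rfl⟩ := hg
    have hap : a ^ p = 1 := by
      refine orderOf_dvd_iff_pow_eq_one.1 ((Subgroup.orderOf_dvd_natCard _ ha).trans ?_)
      rw [Nat.card_zpowers, h.hx]
    rw [map_pow, map_mul, MonoidHom.mem_ker.1 hb, mul_one, ← map_pow, hap, map_one]
  have hNp : IsPGroup p N := fun g => ⟨1, Subtype.ext (h.inj (by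
    rw [SubmonoidClass.coe_pow, pow_one, OneMemClass.coe_one, map_one]
    refine apply_eq_one_of_character_eq σ ?_
    have hg : (g : G) ∈ (Subgroup.zpowers x ⊔ MonoidHom.ker ρ₁) ⊓
        (Subgroup.zpowers x ⊔ MonoidHom.ker ρ₂) := by rw [← hN]; exact g.2
    have h1 := hpow ρ₁ _ hg.1
    have h2 := hpow ρ₂ _ hg.2
    have e1 : ρ₁.character ((g : G) ^ p) = m₁ := by
      rw [Representation.character, h1, LinearMap.trace_one, Module.finrank_fin_fun]
    have e2 : ρ₂.character ((g : G) ^ p) = m₂ := by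
      rw [Representation.character, h2, LinearMap.trace_one, Module.finrank_fin_fun]
    rw [hρ₂, Pi.sub_apply, e1, sub_eq_iff_eq_add] at e2
    rw [e2, Module.finrank_fin_fun, hsum, Nat.cast_add]))⟩
  refine h.nn N hNn (le_antisymm ?_ ?_)
  · obtain ⟨m, hm⟩ := hNp.exists_card_eq
    have hm1 : m ≤ 1 := by
      by_contra hlt
      exact h.sq ((pow_dvd_pow p (by omega : 2 ≤ m)).trans (hm ▸ Subgroup.card_subgroup_dvd_card _))
    rw [hm]
    exact (pow_le_pow_right₀ hp.out.one_le hm1).trans_eq (pow_one p)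
  · rw [← h.hx, ← Nat.card_zpowers]
    exact Subgroup.card_le_of_le (Subgroup.zpowers_le.2 hxN)

/-- The hypotheses on a subgroup in which `⟨x⟩` is not normal. -/
theorem Hyp.restrict {x : G} {n : ℕ} {σ : Representation ℂ G (Fin n → ℂ)} (h : Hyp p x σ)
    (H : Subgroup G) (hxH : x ∈ H) {w : G} (hw : w ∈ H) (hwx : w * x * w⁻¹ ∉ Subgroup.zpowers x) :
    Hyp p (⟨x, hxH⟩ : H) (σ.comp H.subtype) where
  sq hd := h.sq (hd.trans (Subgroup.card_subgroup_dvd_card H))
  hx := by rw [← Subgroup.orderOf_coe]; exact h.hx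
  inj := h.inj.comp H.subtype_injective
  deg := h.deg
  p5 := h.p5
  nn K hK hKc := hwx <| by
    haveI := hK
    have hxK : (⟨x, hxH⟩ : H) ∈ K := eq_zpowers_of_normal (p := p)
      (by rw [← Subgroup.orderOf_coe]; exact h.hx)
      (fun hd => h.sq (hd.trans (Subgroup.card_subgroup_dvd_card H))) (by rw [hKc])
    have hz : Subgroup.zpowers (⟨x, hxH⟩ : H) = K :=
      Subgroup.eq_of_le_of_card_ge (Subgroup.zpowers_le.2 hxK)
        (by rw [hKc, Nat.card_zpowers, ← Subgroup.orderOf_coe]; exact h.hx.ge)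
    have hmem := hK.conj_mem _ hxK ⟨w, hw⟩
    rw [← hz] at hmem
    obtain ⟨k, hk⟩ := Subgroup.mem_zpowers_iff.1 hmem
    exact ⟨k, congrArg Subtype.val hk⟩

/-- Some conjugate of `x` lies outside `⟨x⟩`. -/
theorem exists_conj_notMem {x : G} {n : ℕ} {σ : Representation ℂ G (Fin n → ℂ)} (h : Hyp p x σ) :
    ∃ g : G, g * x * g⁻¹ ∉ Subgroup.zpowers x := by
  by_contra hall
  push Not at hall
  refine h.nn (Subgroup.zpowers x) ⟨fun y hy g => ?_⟩ (by rw [Nat.card_zpowers, h.hx])
  obtain ⟨k, rfl⟩ := Subgroup.mem_zpowers_iff.1 hy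
  rw [← conj_zpow]
  exact zpow_mem (hall g) k

/-- **What centralizes all the conjugates of `x` is central.** -/
theorem mem_center_of_commute {x : G} {n : ℕ} {σ : Representation ℂ G (Fin n → ℂ)} (h : Hyp p x σ)
    {k : G} (hk : ∀ g : G, Commute (g * x * g⁻¹) k) : k ∈ Subgroup.center G := by
  classical
  obtain ⟨g₀, hg₀⟩ := exists_conj_notMem h
  obtain ⟨H, hH⟩ : ∃ H, H = Subgroup.centralizer ({k} : Set G) := ⟨_, rfl⟩
  have hmem : ∀ g, g * x * g⁻¹ ∈ H := fun g =>
    hH ▸ Subgroup.mem_centralizer_singleton_iff.2 (hk g).eq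
  have hxH : x ∈ H := by simpa using hmem 1
  have hwx : g₀ * x * g₀⁻¹ * x * (g₀ * x * g₀⁻¹)⁻¹ ∉ Subgroup.zpowers x := by
    intro hmem'
    -- a conjugate normalizing the Sylow subgroup lies in it
    refine hg₀ ?_
    have hpg : IsPGroup p (Subgroup.zpowers (g₀ * x * g₀⁻¹)) :=
      IsPGroup.of_card (n := 1) (by
        rw [Nat.card_zpowers, pow_one]
        exact (orderOf_injective (MulAut.conj g₀).toMonoidHom (MulEquiv.injective _) x).trans h.hx)
    have hPp : IsPGroup p (Subgroup.zpowers x) :=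
      IsPGroup.of_card (n := 1) (by rw [Nat.card_zpowers, h.hx, pow_one])
    have hle : Subgroup.zpowers (g₀ * x * g₀⁻¹) ≤
        Subgroup.normalizer (Subgroup.zpowers x : Set G) := by
      rw [Subgroup.zpowers_le]
      have h2 : Subgroup.zpowers (g₀ * x * g₀⁻¹ * x * (g₀ * x * g₀⁻¹)⁻¹) = Subgroup.zpowers x := by
        refine Subgroup.eq_of_le_of_card_ge (Subgroup.zpowers_le.2 hmem') (le_of_eq ?_)
        rw [Nat.card_zpowers, Nat.card_zpowers]
        exact (orderOf_injective (MulAut.conj (g₀ * x * g₀⁻¹)).toMonoidHom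
          (MulEquiv.injective _) x).symm
      refine Subgroup.mem_normalizer_iff.2 fun u => ⟨fun hu => ?_, fun hu => ?_⟩
      · obtain ⟨j, rfl⟩ := Subgroup.mem_zpowers_iff.1 hu
        rw [← conj_zpow]
        exact zpow_mem hmem' j
      · rw [← h2] at hu
        obtain ⟨j, hj⟩ := Subgroup.mem_zpowers_iff.1 hu
        rw [conj_zpow] at hj
        exact ⟨j, mul_left_cancel (mul_right_cancel hj)⟩
    obtain ⟨m, hm⟩ := (hPp.to_sup_of_normal_left' hpg hle).exists_card_eq
    have hm1 : m ≤ 1 := by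
      by_contra h'
      exact h.sq ((pow_dvd_pow p (by omega : 2 ≤ m)).trans (hm ▸ Subgroup.card_subgroup_dvd_card _))
    have heq : Subgroup.zpowers x = Subgroup.zpowers x ⊔ Subgroup.zpowers (g₀ * x * g₀⁻¹) :=
      Subgroup.eq_of_le_of_card_ge le_sup_left (by
        rw [hm, Nat.card_zpowers, h.hx]
        exact (pow_le_pow_right₀ hp.out.one_le hm1).trans_eq (pow_one p))
    rw [heq]
    exact Subgroup.mem_sup_right (Subgroup.mem_zpowers _)
  have hR := h.restrict H hxH (hmem g₀) hwx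
  let σH : Representation ℂ H (Fin n → ℂ) := σ.comp H.subtype
  obtain ⟨m, τ, hτ, hτc⟩ := irreducible hR
  haveI := hτ
  haveI : σH.IsIrreducible :=
    (equiv_of_character_eq τ σH hτc).elim fun e => isIrreducible_of_equiv e
  have hsc := eq_smul_one_of_commute σH (σ k) fun y => by
    show σ y * σ k = σ k * σ y
    rw [← map_mul, ← map_mul]
    exact congrArg σ (Subgroup.mem_centralizer_singleton_iff.1 (hH ▸ y.2))
  refine Subgroup.mem_center_iff.2 fun g => h.inj ?_
  rw [map_mul, map_mul, hsc, mul_smul_comm, smul_mul_assoc, one_mul, mul_one]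

end CfsgLib.HalfDegree
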