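import Cfsg.Agent.HalfDegree.Irreducible
import Cfsg.Agent.Char.DegreeRatio
import Cfsg.Agent.Char.CenterValues
import Cfsg.Agent.Solvable.CoprimeAct
import Mathlib.GroupTheory.PGroup
import Mathlib.GroupTheory.Nilpotent

/-!
# The `p'`-core centralizes the elements of order `p`

An invariant `q`-subgroup moved by `x` would be of class two with centre of index `q ^ (2 k)`, where
`p = 2 q ^ k + 1`, and no such power of `q` is `1` modulo `p`.
-/

set_option autoImplicit false
set_option linter.unusedSectionVars false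
set_option linter.style.haveILetI false

namespace CfsgLib.HalfDegree

open Finset CfsgLib.Char
open scoped commutatorElement

universe u

variable {G : Type u} [Group G] [Finite G] {p : ℕ} [hp : Fact p.Prime]

theorem arith {q k i : ℕ} (hq : 2 ≤ q) (hk : 2 ≤ q ^ k) (hp : 2 * q ^ k + 1 = p) (hi : 1 ≤ i)
    (hi2 : i ≤ 2 * k) (hd : (q : ZMod p) ^ i = 1) : False := by
  have h1 : 2 ≤ q ^ i := le_trans hq (Nat.le_self_pow (by omega) q)
  rcases le_or_gt i k with hik | hik
  · have h2 : q ^ i ≤ q ^ k := Nat.pow_le_pow_right (by omega) hik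
    have h3 : ((q ^ i : ℕ) : ZMod p) = ((1 : ℕ) : ZMod p) := by push_cast; exact hd
    rw [ZMod.natCast_eq_natCast_iff', Nat.mod_eq_of_lt (by omega), Nat.mod_eq_of_lt (by omega)] at h3
    omega
  · obtain ⟨j, rfl⟩ : ∃ j, i = k + j := ⟨i - k, by omega⟩
    have h2 : q ^ j ≤ q ^ k := Nat.pow_le_pow_right (by omega) (by omega)
    have h3 : ((2 * q ^ k + 1 : ℕ) : ZMod p) = 0 := by rw [hp, ZMod.natCast_self]
    have h4 : ((q ^ j + 2 : ℕ) : ZMod p) = 0 := by
      push_cast at h3 ⊢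
      rw [pow_add] at hd
      linear_combination (q : ZMod p) ^ j * h3 - 2 * hd
    have h5 := Nat.le_of_dvd (by omega) ((ZMod.natCast_eq_zero_iff _ _).1 h4)
    omega

/-- An invariant `q`-subgroup is centralized. -/
theorem commute_qgroup {x : G} {n : ℕ} {σ : Representation ℂ G (Fin n → ℂ)} (h : Hyp p x σ)
    {q : ℕ} [hq : Fact q.Prime] (hqp : q ≠ p) :
    ∀ (m : ℕ) (Q : Subgroup G), Nat.card Q ≤ m → IsPGroup q Q →
      x ∈ Subgroup.normalizer (Q : Set G) → ∀ y ∈ Q, Commute x y := by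
  classical
  intro m
  induction m with
  | zero => intro Q hQ; exact absurd hQ (by have := Nat.card_pos (α := Q); omega)
  | succ m ih =>
  intro Q hQm hQq hxQ
  by_contra hne
  push Not at hne
  obtain ⟨y, hy, hxy⟩ := hne
  have hxconj : ∀ a ∈ Q, x * a * x⁻¹ ∈ Q := fun a ha => (Subgroup.mem_normalizer_iff.1 hxQ a).1 ha
  have hsmall : ∀ B : Subgroup G, B ≤ Q → B ≠ Q → x ∈ Subgroup.normalizer (B : Set G) →
      ∀ b ∈ B, Commute x b := fun B hB hBne hxB => by
    refine ih B ?_ (hQq.to_le hB) hxB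
    by_contra hlt
    exact hBne (Subgroup.eq_of_le_of_card_ge hB (by omega))
  obtain ⟨a, ha⟩ := hQq.exists_card_eq
  have hpQ : (Nat.card Q).Coprime p := by
    rw [ha]; exact ((Nat.coprime_primes hq.out hp.out).2 hqp).pow_left a
  have hdisj : ∀ b ∈ Q, b ∈ Subgroup.zpowers x → b = 1 := by
    intro b hb hb'
    refine orderOf_eq_one_iff.1 (Nat.eq_one_of_dvd_coprimes hpQ (Subgroup.orderOf_dvd_natCard Q hb) ?_)
    have := Subgroup.orderOf_dvd_natCard _ hb'
    rwa [Nat.card_zpowers, h.hx] at this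
  have hwx : y * x * y⁻¹ ∉ Subgroup.zpowers x := fun hmem => hxy <| by
    have h1 : y * x * y⁻¹ * x⁻¹ = 1 := hdisj _ (by
      rw [show y * x * y⁻¹ * x⁻¹ = y * (x * y⁻¹ * x⁻¹) by group]
      exact mul_mem hy (hxconj _ (inv_mem hy))) (mul_mem hmem (inv_mem (Subgroup.mem_zpowers x)))
    have h2 : y * x = x * y := mul_inv_eq_iff_eq_mul.1 (mul_inv_eq_one.1 h1)
    exact h2.symm
  obtain ⟨H, hH⟩ : ∃ H, H = Q ⊔ Subgroup.zpowers x := ⟨_, rfl⟩
  have hQH : Q ≤ H := hH ▸ le_sup_left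
  have hxH : x ∈ H := hH ▸ Subgroup.mem_sup_right (Subgroup.mem_zpowers x)
  have hR := h.restrict H hxH (hQH hy) hwx
  let QH : Subgroup H := Q.subgroupOf H
  have hHN : H ≤ Subgroup.normalizer (Q : Set G) := by
    rw [hH]; exact sup_le Subgroup.le_normalizer (Subgroup.zpowers_le.2 hxQ)
  haveI : QH.Normal := (Subgroup.normal_subgroupOf_iff_le_normalizer hQH).2 hHN
  have hidx : QH.index ∣ p := by
    have hsurj : ∀ z : H ⧸ QH, z ∈ Subgroup.zpowers ((⟨x, hxH⟩ : H) : H ⧸ QH) := by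
      intro z
      obtain ⟨⟨g, hg⟩, rfl⟩ := QuotientGroup.mk_surjective z
      have hg' : g ∈ ((Q ⊔ Subgroup.zpowers x : Subgroup G) : Set G) := hH ▸ hg
      rw [Subgroup.coe_mul_of_right_le_normalizer_left Q _ (Subgroup.zpowers_le.2 hxQ)] at hg'
      obtain ⟨b, hb, c, hc, hbc⟩ := hg'
      obtain ⟨j, rfl⟩ := Subgroup.mem_zpowers_iff.1 hc
      refine ⟨j, ?_⟩
      show ((⟨x, hxH⟩ : H) : H ⧸ QH) ^ j = _
      rw [← QuotientGroup.mk_zpow, QuotientGroup.eq]
      show ((⟨x, hxH⟩ : H) ^ j)⁻¹ * ⟨g, hg⟩ ∈ Q.subgroupOf H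
      rw [Subgroup.mem_subgroupOf]
      show (x ^ j)⁻¹ * g ∈ Q
      rw [← hbc, ← mul_assoc]
      have := (Subgroup.mem_normalizer_iff.1 (zpow_mem hxQ (-j)) b).1 hb
      simpa using this
    rw [Subgroup.index_eq_card, ← Subgroup.card_top, ← (eq_top_iff.2 fun z _ => hsurj z :
      Subgroup.zpowers ((⟨x, hxH⟩ : H) : H ⧸ QH) = ⊤), Nat.card_zpowers]
    refine orderOf_dvd_of_pow_eq_one ?_
    rw [← QuotientGroup.mk_pow, show (⟨x, hxH⟩ : H) ^ p = 1 from Subtype.ext (by
      show x ^ p = 1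
      rw [← h.hx, pow_orderOf_eq_one]), QuotientGroup.mk_one]
  haveI := Fintype.ofFinite H
  haveI : Fintype QH := Fintype.ofFinite _
  let σH : Representation ℂ H (Fin n → ℂ) := σ.comp H.subtype
  have hχ : Cfsg.IsIrrCharacter H σH.character := irreducible hR
  have hdeg := h.deg
  have hp5 := h.p5
  have hn1 : σH.character 1 = n := by
    rw [Representation.char_one, Module.finrank_fin_fun]
  obtain ⟨φ, hφdef⟩ : ∃ φ : QH → ℂ,
      φ = fun b : QH => σH.character b := ⟨_, rfl⟩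
  have hφ : Cfsg.IsIrrCharacter QH φ := by
    obtain ⟨θ, hθ, hc⟩ := exists_constituent_restrict (N := QH) hχ
    obtain ⟨k, hk, hk1⟩ := exists_degree_ratio hχ hθ hc
    obtain ⟨d, hd0, hd⟩ := IsIrrCharacter.exists_degree hθ
    rw [hn1, hd] at hk1
    have hnk : n = k * d := by exact_mod_cast hk1
    have hk1' : k = 1 := by
      refine ((Nat.dvd_prime hp.out).1 (hk.trans hidx)).resolve_right fun hkp => ?_
      rw [hkp] at hnk
      have : p ≤ p * d := Nat.le_mul_of_pos_right p hd0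
      omega
    rw [hφdef, IsCharacter.eq_of_constituent (IsCharacter.restrict (IsIrrCharacter.isCharacter hχ) QH)
      hθ hc (by rw [OneMemClass.coe_one, hn1, hd, hnk, hk1', one_mul])]
    exact hθ
  have hφ1 : φ 1 = n := by rw [hφdef]; exact hn1
  have hfaith : ∀ b : QH, φ b = φ 1 → b = 1 := by
    intro b hb
    simp only [hφdef] at hb
    refine Subtype.ext (Subtype.ext (h.inj ?_))
    have := apply_eq_one_of_character_eq σH (g := (b : H))
      (by rw [hb, OneMemClass.coe_one, Representation.char_one])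
    rw [OneMemClass.coe_one, OneMemClass.coe_one, map_one]
    exact this
  have hn2 : 2 ≤ n := by omega
  have hnonab : ¬ ∀ b ∈ Q, ∀ c ∈ Q, b * c = c * b := by
    intro hab
    obtain ⟨d', τ, hτ, hτc⟩ := hφ
    haveI := hτ
    have hfin : d' = n := by
      have := congrFun hτc 1
      rw [Representation.char_one, Module.finrank_fin_fun, hφ1] at this
      exact_mod_cast this
    have hdd := finrank_dvd_index_of_abelian τ ⊤ fun b _ c _ =>
      Subtype.ext (Subtype.ext (hab _ b.2 _ c.2))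
    rw [Module.finrank_fin_fun, Subgroup.index_top, hfin] at hdd
    have := Nat.le_of_dvd one_pos hdd
    omega
  -- the derived subgroup
  obtain ⟨F, hF⟩ : ∃ F, F = ⁅Q, Q⁆ := ⟨_, rfl⟩
  have hFQ : F ≤ Q := hF ▸ Subgroup.commutator_le.2 fun b hb c hc =>
    mul_mem (mul_mem (mul_mem hb hc) (inv_mem hb)) (inv_mem hc)
  have hconjmap : ∀ B : Subgroup G, x ∈ Subgroup.normalizer (B : Set G) ↔
      B.map (MulAut.conj x).toMonoidHom = B := fun B => by
    constructor
    · intro hB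
      ext z
      rw [Subgroup.mem_map]
      constructor
      · rintro ⟨b, hb, rfl⟩; exact (Subgroup.mem_normalizer_iff.1 hB b).1 hb
      · intro hz
        refine ⟨x⁻¹ * z * x, ?_, by simp [mul_assoc]⟩
        refine (Subgroup.mem_normalizer_iff.1 hB _).2 ?_
        rwa [show x * (x⁻¹ * z * x) * x⁻¹ = z by group]
    · intro hB
      refine Subgroup.mem_normalizer_iff.2 fun z => ⟨fun hz => ?_, fun hz => ?_⟩
      · rw [← hB]; exact ⟨z, hz, rfl⟩
      · rw [← hB] at hz
        obtain ⟨b, hb, hbz⟩ := hz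
        rwa [← (MulAut.conj x).injective hbz]
  have hxF : x ∈ Subgroup.normalizer (F : Set G) := by
    rw [hconjmap, hF, Subgroup.map_commutator, (hconjmap Q).1 hxQ]
  have hFne : F ≠ Q := by
    intro e
    haveI : Nontrivial Q := by
      refine (Subgroup.nontrivial_iff_ne_bot Q).2 fun hb => hxy ?_
      rw [hb, Subgroup.mem_bot] at hy
      rw [hy]; exact Commute.one_right x
    haveI : Group.IsNilpotent Q := hQq.isNilpotent
    refine (Group.IsSolvable.commutator_lt_top_of_nontrivial (G := Q)).ne ?_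
    refine Subgroup.map_injective Q.subtype_injective ?_
    rw [← MonoidHom.range_eq_map, Subgroup.range_subtype, commutator_def, Subgroup.map_commutator,
      ← MonoidHom.range_eq_map, Subgroup.range_subtype, ← hF, e]
  have hFfix := hsmall F hFQ hFne hxF
  obtain ⟨M, hM⟩ : ∃ M, M = Subgroup.closure ((fun b => b⁻¹ * (x * b * x⁻¹)) '' (Q : Set G)) := ⟨_, rfl⟩
  have hMQ : M ≤ Q := hM ▸ (Subgroup.closure_le _).2 (by
    rintro _ ⟨b, hb, rfl⟩
    exact mul_mem (inv_mem hb) (hxconj b hb))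
  have hMeq : M = Q := by
    by_contra hMne
    have hxM : x ∈ Subgroup.normalizer (M : Set G) := by
      rw [hconjmap, hM, MonoidHom.map_closure]
      congr 1
      rw [Set.image_image]
      ext z
      constructor
      · rintro ⟨b, hb, rfl⟩
        exact ⟨x * b * x⁻¹, hxconj b hb, by simp [mul_assoc]⟩
      · rintro ⟨b, hb, rfl⟩
        refine ⟨x⁻¹ * b * x, ?_, by simp [mul_assoc]⟩
        refine (Subgroup.mem_normalizer_iff.1 hxQ _).2 ?_
        rwa [show x * (x⁻¹ * b * x) * x⁻¹ = b by group]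
    have hMfix := hsmall M hMQ hMne hxM
    obtain ⟨v, hv⟩ : ∃ v, v = y⁻¹ * (x * y * x⁻¹) := ⟨_, rfl⟩
    have hvM : v ∈ M := by rw [hv, hM]; exact Subgroup.subset_closure ⟨y, hy, rfl⟩
    have hvc := hMfix v hvM
    have hpow : ∀ j : ℕ, x ^ j * y * (x ^ j)⁻¹ = y * v ^ j := by
      intro j
      induction j with
      | zero => simp
      | succ j ih =>
        rw [pow_succ' x, mul_inv_rev, show x * x ^ j * y * ((x ^ j)⁻¹ * x⁻¹) =
          x * (x ^ j * y * (x ^ j)⁻¹) * x⁻¹ by group, ih,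
          show x * (y * v ^ j) * x⁻¹ = (x * y * x⁻¹) * (x * v ^ j * x⁻¹) by group,
          (hvc.pow_right j).eq, mul_inv_cancel_right,
          show x * y * x⁻¹ = y * v by rw [hv]; group, pow_succ', mul_assoc]
    have hvp := hpow p
    rw [← h.hx, pow_orderOf_eq_one, one_mul, inv_one, mul_one, h.hx, left_eq_mul] at hvp
    have hv1 : v = 1 := orderOf_eq_one_iff.1 (Nat.eq_one_of_dvd_coprimes hpQ
      (Subgroup.orderOf_dvd_natCard Q (hMQ hvM)) (orderOf_dvd_of_pow_eq_one hvp))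
    rw [hv, inv_mul_eq_one] at hv1
    exact hxy (mul_inv_eq_iff_eq_mul.1 hv1.symm)
  have hcentral : ∀ f ∈ F, ∀ b ∈ Q, Commute f b := by
    intro f hf
    have hgen : M ≤ Subgroup.centralizer ({f} : Set G) := hM ▸ (Subgroup.closure_le _).2 (by
      rintro _ ⟨b, hb, rfl⟩
      refine Subgroup.mem_centralizer_singleton_iff.2 ?_
      have hc1 : f * b * f⁻¹ * b⁻¹ ∈ F := hF ▸ Subgroup.commutator_mem_commutator (hFQ hf) hb
      have e1 := hFfix _ hc1
      have e2 := hFfix f hf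
      have e3 : x * (f * b * f⁻¹ * b⁻¹) * x⁻¹ = f * b * f⁻¹ * b⁻¹ := by
        rw [e1.eq, mul_inv_cancel_right]
      have e4 : x * f * x⁻¹ = f := by rw [e2.eq, mul_inv_cancel_right]
      have e5 : x * f⁻¹ * x⁻¹ = f⁻¹ := by rw [e2.inv_right.eq, mul_inv_cancel_right]
      obtain ⟨b', hb'⟩ : ∃ b', b' = x * b * x⁻¹ := ⟨_, rfl⟩
      have e6 : f * b' * f⁻¹ * b'⁻¹ = f * b * f⁻¹ * b⁻¹ := by
        conv_rhs => rw [← e3, show x * (f * b * f⁻¹ * b⁻¹) * x⁻¹ =
          (x * f * x⁻¹) * (x * b * x⁻¹) * (x * f⁻¹ * x⁻¹) * (x * b * x⁻¹)⁻¹ by group, e4, e5, ← hb']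
      show b⁻¹ * (x * b * x⁻¹) * f = f * (b⁻¹ * (x * b * x⁻¹))
      rw [← hb']
      calc b⁻¹ * b' * f = b⁻¹ * (f * b * f⁻¹ * b⁻¹)⁻¹ * (f * b' * f⁻¹ * b'⁻¹) * b' * f := by
            rw [e6]; group
        _ = f * (b⁻¹ * b') := by group)
    intro b hb
    exact (Subgroup.mem_centralizer_singleton_iff.1 (hgen (hMeq ▸ hb))).symm
  -- the centre has index `n ^ 2`
  have hvan := (IsIrrCharacter.vanish_of_center_commutator hφ fun g hg => by
    obtain ⟨c, hc⟩ : ∃ c : QH, c * g * c⁻¹ * g⁻¹ ≠ 1 := by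
      by_contra hall
      push Not at hall
      refine hg (Subgroup.mem_center_iff.2 fun c => ?_)
      exact mul_inv_eq_iff_eq_mul.1 (mul_inv_eq_one.1 (hall c))
    refine ⟨c, Subgroup.mem_center_iff.2 fun d => Subtype.ext (Subtype.ext ?_), fun he => hc (hfaith _ he)⟩
    have hmem : ((c : H) : G) * (g : H) * ((c : H) : G)⁻¹ * (((g : H) : G))⁻¹ ∈ F :=
      hF ▸ Subgroup.commutator_mem_commutator c.2 g.2
    exact ((hcentral _ hmem _ d.2).eq).symm).2
  rw [hφ1, ← Nat.cast_pow, Nat.cast_inj] at hvan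
  have hcard : Nat.card QH = Nat.card Q :=
    Nat.card_congr (Subgroup.subgroupOfEquivOfLe hQH).toEquiv
  obtain ⟨k, hk⟩ : ∃ k, n = q ^ k := by
    obtain ⟨d, -, hd⟩ := IsIrrCharacter.exists_degree hφ
    have hdd := IsIrrCharacter.degree_dvd_card hφ hd
    rw [hcard, ha] at hdd
    obtain ⟨k, -, hk⟩ := (Nat.dvd_prime_pow hq.out).1 hdd
    rw [hφ1, Nat.cast_inj] at hd
    exact ⟨k, hd.trans hk⟩
  -- fixed points
  obtain ⟨C, hC⟩ : ∃ C, C = Q ⊓ Subgroup.centralizer ({x} : Set G) := ⟨_, rfl⟩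
  obtain ⟨Z, hZ⟩ : ∃ Z, Z = Q ⊓ Subgroup.centralizer (Q : Set G) := ⟨_, rfl⟩
  have hxZ : x ∈ Subgroup.normalizer (Z : Set G) := by
    rw [hconjmap, hZ, Subgroup.map_inf _ _ _ (MulEquiv.injective _), (hconjmap Q).1 hxQ]
    congr 1
    ext z
    rw [Subgroup.mem_map]
    constructor
    · rintro ⟨b, hb, rfl⟩
      refine Subgroup.mem_centralizer_iff.2 fun c hc => ?_
      have h2 := Subgroup.mem_centralizer_iff.1 hb (x⁻¹ * c * x) (by
        refine (Subgroup.mem_normalizer_iff.1 hxQ _).2 ?_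
        rwa [show x * (x⁻¹ * c * x) * x⁻¹ = c by group])
      show c * (x * b * x⁻¹) = x * b * x⁻¹ * c
      calc c * (x * b * x⁻¹) = x * (x⁻¹ * c * x * b) * x⁻¹ := by group
        _ = x * (b * (x⁻¹ * c * x)) * x⁻¹ := by rw [h2]
        _ = x * b * x⁻¹ * c := by group
    · intro hz
      refine ⟨x⁻¹ * z * x, Subgroup.mem_centralizer_iff.2 fun c hc => ?_, by simp [mul_assoc]⟩
      have h2 := Subgroup.mem_centralizer_iff.1 hz _ (hxconj c hc)
      calc c * (x⁻¹ * z * x) = x⁻¹ * ((x * c * x⁻¹) * z) * x := by group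
        _ = x⁻¹ * (z * (x * c * x⁻¹)) * x := by rw [h2]
        _ = x⁻¹ * z * x * c := by group
  have hZQ : Z ≠ Q := fun e => hnonab fun b hb c hc => by
    rw [← e, hZ] at hc
    exact Subgroup.mem_centralizer_iff.1 hc.2 b hb
  have hZC : Z ≤ C := by
    rw [hC]
    refine le_inf (hZ ▸ inf_le_left) fun z hz => Subgroup.mem_centralizer_singleton_iff.2 ?_
    exact ((hsmall Z (hZ ▸ inf_le_left) hZQ hxZ) z hz).eq.symm
  have hCQ : C ≤ Q := hC ▸ inf_le_left
  have hcenter : (Subgroup.center QH).map (H.subtype.comp QH.subtype) = Z := by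
    ext z
    rw [hZ, Subgroup.mem_map, Subgroup.mem_inf, Subgroup.mem_centralizer_iff]
    constructor
    · rintro ⟨w, hw, rfl⟩
      refine ⟨w.2, fun c hc => ?_⟩
      exact congrArg (fun t : QH => ((t : H) : G))
        (Subgroup.mem_center_iff.1 hw ⟨⟨c, hQH hc⟩, hc⟩)
    · rintro ⟨hz, hzc⟩
      exact ⟨⟨⟨z, hQH hz⟩, hz⟩, Subgroup.mem_center_iff.2 fun c =>
        Subtype.ext (Subtype.ext (hzc _ c.2)), rfl⟩
  have hcardZ : Nat.card Z * (q ^ k) ^ 2 = q ^ a := by
    rw [← hk, hvan, ← hcenter, Subgroup.card_map_of_injective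
      (f := H.subtype.comp QH.subtype) fun a b hab => QH.subtype_injective (H.subtype_injective hab),
      Subgroup.card_mul_index, hcard, ha]
  obtain ⟨c, hca, hc⟩ := (Nat.dvd_prime_pow hq.out).1 (ha ▸ Subgroup.card_dvd_of_le hCQ)
  obtain ⟨z, -, hz⟩ := (Nat.dvd_prime_pow hq.out).1 (hc ▸ Subgroup.card_dvd_of_le hZC)
  have hzc : z ≤ c := (Nat.pow_le_pow_iff_right hq.out.one_lt).1
    (hz ▸ hc ▸ Subgroup.card_le_of_le hZC)
  have hza : z + 2 * k = a := by
    rw [hz, ← pow_mul, ← pow_add] at hcardZ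
    have := Nat.pow_right_injective hq.out.two_le hcardZ
    omega
  have hlt : c < a := by
    refine lt_of_le_of_ne hca fun e => hxy ?_
    have : C = Q := Subgroup.eq_of_le_of_card_ge hCQ (by rw [hc, ha, e])
    rw [← this, hC] at hy
    exact (Subgroup.mem_centralizer_singleton_iff.1 hy.2).symm
  obtain ⟨i, hi⟩ : ∃ i, a = c + i := ⟨a - c, by omega⟩
  -- the congruence
  let A : Subgroup G := Subgroup.zpowers x
  let act : A →* MulAut Q := (Subgroup.normalizerMonoidHom Q).comp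
    (Subgroup.inclusion (Subgroup.zpowers_le.2 hxQ))
  letI : MulAction A Q := MulAction.compHom Q act
  have hmod := (IsPGroup.of_card (n := 1) (by rw [Nat.card_zpowers, h.hx, pow_one]) :
    IsPGroup p A).card_modEq_card_fixedPoints Q
  have hfix : Nat.card (MulAction.fixedPoints A Q) = Nat.card C := by
    refine Nat.card_congr
      { toFun := fun b => ⟨((b : Q) : G), hC ▸ ⟨(b : Q).2, Subgroup.mem_centralizer_singleton_iff.2 ?_⟩⟩
        invFun := fun b => ⟨⟨(b : G), hCQ b.2⟩, ?_⟩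
        left_inv := fun b => rfl
        right_inv := fun b => rfl }
    · have h1 := congrArg Subtype.val (b.2 ⟨x, Subgroup.mem_zpowers x⟩)
      have h2 : x * ((b : Q) : G) * x⁻¹ = ((b : Q) : G) := h1
      exact (mul_inv_eq_iff_eq_mul.1 h2).symm
    · rintro ⟨g, hg⟩
      refine Subtype.ext ?_
      show g * (b : G) * g⁻¹ = (b : G)
      have hb : (b : G) ∈ Q ⊓ Subgroup.centralizer ({x} : Set G) := hC ▸ b.2
      obtain ⟨j, rfl⟩ := Subgroup.mem_zpowers_iff.1 hg
      have hc' : Commute x (b : G) := (Subgroup.mem_centralizer_singleton_iff.1 hb.2).symm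
      rw [(hc'.zpow_left j).eq, mul_inv_cancel_right]
  rw [hfix, ha, hc, hi, ← ZMod.natCast_eq_natCast_iff] at hmod
  push_cast at hmod
  have hq0 : (q : ZMod p) ≠ 0 := fun h0 =>
    hqp ((Nat.prime_dvd_prime_iff_eq hp.out hq.out).1 ((ZMod.natCast_eq_zero_iff _ _).1 h0)).symm
  refine arith (p := p) hq.out.two_le (hk ▸ hn2) (by rw [← hk]; omega) (i := i) (by omega) (by omega) ?_
  refine mul_left_cancel₀ (pow_ne_zero c hq0) ?_
  rw [← pow_add, mul_one, hmod]

/-- **The core centralizes `x`.** -/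
theorem commute_of_normal {x : G} {n : ℕ} {σ : Representation ℂ G (Fin n → ℂ)} (h : Hyp p x σ)
    (K : Subgroup G) (hK : K.Normal) (hxK : x ∉ K) : ∀ k ∈ K, Commute x k := by
  classical
  haveI := hK
  have hpK : ¬ p ∣ Nat.card K := fun hd => hxK (eq_zpowers_of_normal h.hx h.sq hd)
  have hcop : (Nat.card (Subgroup.zpowers x)).Coprime (Nat.card K) := by
    rw [Nat.card_zpowers, h.hx]
    exact hp.out.coprime_iff_not_dvd.2 hpK
  obtain ⟨C, hC⟩ : ∃ C, C = (Subgroup.centralizer ({x} : Set G)).subgroupOf K := ⟨_, rfl⟩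
  suffices hCtop : C = ⊤ by
    intro k hk
    have : (⟨k, hk⟩ : K) ∈ C := hCtop ▸ Subgroup.mem_top _
    rw [hC, Subgroup.mem_subgroupOf] at this
    exact (Subgroup.mem_centralizer_singleton_iff.1 this).symm
  rw [← Subgroup.index_eq_one]
  by_contra hne
  haveI := Fact.mk (Nat.minFac_prime hne)
  have hqd : C.index.minFac ∣ Nat.card K := (Nat.minFac_dvd _).trans C.index_dvd_card
  have hqp : C.index.minFac ≠ p := fun e => hpK (e ▸ hqd)
  haveI : Group.IsSolvable (Subgroup.zpowers x) := inferInstance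
  obtain ⟨S, hS⟩ := CfsgLib.CoprimeAct.exists_invariant_sylow
    (A := Subgroup.zpowers x) (K := K) (by rw [Subgroup.normalizer_eq_top_iff.2 hK]; exact le_top)
    hcop (Or.inl inferInstance) C.index.minFac
  have hfix := commute_qgroup h hqp _ _ le_rfl (S.2.map K.subtype) (hS (Subgroup.mem_zpowers x))
  refine S.not_dvd_index ((Nat.minFac_dvd _).trans (Subgroup.index_dvd_of_le fun s hs => ?_))
  rw [hC, Subgroup.mem_subgroupOf]
  exact Subgroup.mem_centralizer_singleton_iff.2 (hfix _ ⟨s, hs, rfl⟩).symm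

end CfsgLib.HalfDegree
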