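import Cfsg.Agent.HalfDegree.Sylow
import Cfsg.Agent.S0732
import Cfsg.Agent.BrauerPrime.Main

/-!
# The central quotient is `PSL(2, p)`
-/

set_option autoImplicit false
set_option linter.unusedSectionVars false
set_option linter.style.haveILetI false

namespace CfsgLib.HalfDegree

open CfsgLib.Char
open scoped commutatorElement

universe u

variable {G : Type u} [Group G] [Finite G] {p : ℕ} [hp : Fact p.Prime]

theorem not_mem_center {x : G} {n : ℕ} {σ : Representation ℂ G (Fin n → ℂ)} (h : Hyp p x σ) :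
    x ∉ Subgroup.center G := fun hc => by
  obtain ⟨g, hg⟩ := exists_conj_notMem h
  refine hg ?_
  rw [Subgroup.mem_center_iff.1 hc g, mul_inv_cancel_right]
  exact Subgroup.mem_zpowers x

theorem not_solvable {x : G} {n : ℕ} {σ : Representation ℂ G (Fin n → ℂ)} (h : Hyp p x σ) :
    ¬ Group.IsSolvable G := by
  classical
  intro hsol
  obtain ⟨m, hm⟩ := hsol.solvable
  have hex : ∃ k, derivedSeries G k ≤ Subgroup.center G := ⟨m, by rw [hm]; exact bot_le⟩
  have hk := Nat.find_spec hex
  rcases hkz : Nat.find hex with _ | k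
  · rw [hkz] at hk
    exact not_mem_center h (hk (Subgroup.mem_top x))
  rw [hkz, derivedSeries_succ] at hk
  have hnot : ¬ derivedSeries G k ≤ Subgroup.center G := Nat.find_min hex (by omega)
  haveI hDn : (derivedSeries G k).Normal := derivedSeries_normal G k
  by_cases hxD : x ∈ derivedSeries G k
  · obtain ⟨g, hg⟩ := exists_conj_notMem h
    obtain ⟨t, ht⟩ : ∃ t, t = g * x * g⁻¹ := ⟨_, rfl⟩
    have htD : t ∈ derivedSeries G k := ht ▸ hDn.conj_mem x hxD g
    have hc := hk (Subgroup.commutator_mem_commutator htD hxD)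
    obtain ⟨c, hcdef⟩ : ∃ c, c = ⁅t, x⁆ := ⟨_, rfl⟩
    rw [← hcdef] at hc
    have hxx : t * x * t⁻¹ = c * x := by rw [hcdef, commutatorElement_def]; group
    have hcp : c ^ p = 1 := by
      have h1 : Commute c x := (Subgroup.mem_center_iff.1 hc x).symm
      have h2 := h1.mul_pow p
      rw [← hxx, conj_pow, ← h.hx, pow_orderOf_eq_one, mul_one, mul_inv_cancel, mul_one] at h2
      exact h.hx ▸ h2.symm
    have hc1 : c = 1 := by
      by_contra hne
      have hd : p ∣ Nat.card (Subgroup.center G) :=
        (orderOf_eq_prime hcp hne).symm.dvd.trans (Subgroup.orderOf_dvd_natCard _ hc)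
      exact not_mem_center h (eq_zpowers_of_normal h.hx h.sq hd)
    refine hg ?_
    rw [hc1, one_mul] at hxx
    have hP : IsPGroup p (Subgroup.zpowers x) :=
      IsPGroup.of_card (n := 1) (by rw [Nat.card_zpowers, h.hx, pow_one])
    have hT : IsPGroup p (Subgroup.zpowers t) := IsPGroup.of_card (n := 1) (by
      rw [Nat.card_zpowers, pow_one, ht]
      exact (orderOf_injective (MulAut.conj g).toMonoidHom (MulEquiv.injective _) x).trans h.hx)
    have hle : Subgroup.zpowers t ≤ Subgroup.normalizer (Subgroup.zpowers x : Set G) := by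
      rw [Subgroup.zpowers_le]
      have hcm : Commute t x := mul_inv_eq_iff_eq_mul.1 hxx
      refine Subgroup.mem_normalizer_iff.2 fun u => ⟨fun hu => ?_, fun hu => ?_⟩
      · obtain ⟨j, rfl⟩ := Subgroup.mem_zpowers_iff.1 hu
        rw [(hcm.zpow_right j).eq, mul_inv_cancel_right]
        exact zpow_mem (Subgroup.mem_zpowers x) j
      · obtain ⟨j, hj⟩ := Subgroup.mem_zpowers_iff.1 hu
        refine ⟨j, mul_left_cancel (a := t) (mul_right_cancel (b := t⁻¹) ?_)⟩
        show t * x ^ j * t⁻¹ = t * u * t⁻¹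
        rw [(hcm.zpow_right j).eq, mul_inv_cancel_right, hj]
    obtain ⟨m', hm'⟩ := (hP.to_sup_of_normal_left' hT hle).exists_card_eq
    have hm1 : m' ≤ 1 := by
      by_contra h'
      exact h.sq ((pow_dvd_pow p (by omega : 2 ≤ m')).trans (hm' ▸ Subgroup.card_subgroup_dvd_card _))
    have heq : Subgroup.zpowers x = Subgroup.zpowers x ⊔ Subgroup.zpowers t :=
      Subgroup.eq_of_le_of_card_ge le_sup_left (by
        rw [hm', Nat.card_zpowers, h.hx]
        exact (pow_le_pow_right₀ hp.out.one_le hm1).trans_eq (pow_one p))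
    rw [← ht, heq]
    exact Subgroup.mem_sup_right (Subgroup.mem_zpowers _)
  · refine hnot fun d hd => mem_center_of_commute h fun g => ?_
    have h1 := commute_of_normal h _ hDn hxD (g⁻¹ * d * g) (by
      simpa using hDn.conj_mem d hd g⁻¹)
    show g * x * g⁻¹ * d = d * (g * x * g⁻¹)
    calc g * x * g⁻¹ * d = g * (x * (g⁻¹ * d * g)) * g⁻¹ := by group
      _ = g * ((g⁻¹ * d * g) * x) * g⁻¹ := by rw [h1.eq]
      _ = d * (g * x * g⁻¹) := by group

/-- A group of semi-affine maps modulo the centre makes the group solvable. -/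
theorem solvable_of_semiaffine {F : Type} [Field F] [Finite F] (f : G →* Equiv.Perm F)
    (hker : ∀ g, f g = 1 → g ∈ Subgroup.center G)
    (hf : ∀ g, f g ∈ Cfsg.semiaffineGroup F) : Group.IsSolvable G := by
  classical
  have hex : ∃ m, ∃ i, Nat.card (derivedSeries G i) = m := ⟨_, 0, rfl⟩
  obtain ⟨i, hi⟩ := Nat.find_spec hex
  have hle : derivedSeries G (i + 1) ≤ derivedSeries G i := derivedSeries_antitone G (Nat.le_succ i)
  have heq : derivedSeries G (i + 1) = derivedSeries G i := Subgroup.eq_of_le_of_card_ge hle (by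
    rw [hi]; exact Nat.find_min' hex ⟨i + 1, rfl⟩)
  obtain ⟨K, hK⟩ : ∃ K, K = derivedSeries G i := ⟨_, rfl⟩
  have hKp : ⁅K, K⁆ = K := by rw [hK, ← derivedSeries_succ, heq]
  obtain ⟨L, hL⟩ : ∃ L, L = K.map f := ⟨_, rfl⟩
  have hLperf : commutator L = ⊤ := by
    refine Subgroup.map_injective L.subtype_injective ?_
    rw [← MonoidHom.range_eq_map, Subgroup.range_subtype, commutator_def, Subgroup.map_commutator,
      ← MonoidHom.range_eq_map, Subgroup.range_subtype, hL, ← Subgroup.map_commutator, hKp]
  haveI := Fintype.ofFinite L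
  haveI := CfsgLib.BrauerPrime.semiaffine_trivial hLperf L.subtype L.subtype_injective fun l => by
    have hl : (l : Equiv.Perm F) ∈ K.map f := hL ▸ l.2
    obtain ⟨g, -, hg⟩ := hl
    show (l : Equiv.Perm F) ∈ Cfsg.semiaffineGroup F
    rw [← hg]
    exact hf g
  have hKc : K ≤ Subgroup.center G := fun g hg => hker g (congrArg Subtype.val
    (Subsingleton.elim (⟨f g, hL ▸ Subgroup.mem_map_of_mem f hg⟩ : L) 1))
  refine ⟨i, ?_⟩
  rw [← hK, ← hKp, eq_bot_iff, Subgroup.commutator_le]
  intro a _ b hb
  rw [Subgroup.mem_bot, commutatorElement_eq_one_iff_mul_comm]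
  exact Subgroup.mem_center_iff.1 (hKc hb) a

/-- **Feit's theorem.** -/
theorem psl {x : G} {n : ℕ} {σ : Representation ℂ G (Fin n → ℂ)} (h : Hyp p x σ) :
    Nonempty ((G ⧸ Subgroup.center G) ≃*
      Matrix.ProjectiveSpecialLinearGroup (Fin 2) (ZMod p)) := by
  classical
  have hdeg := h.deg
  have hp5 := h.p5
  obtain ⟨P, hP⟩ := exists_sylow h
  have hPc : Nat.card (P : Subgroup G) = p := by rw [hP, Nat.card_zpowers, h.hx]
  have hxP : x ∈ (P : Subgroup G) := hP ▸ Subgroup.mem_zpowers x
  have huniq : ∀ (R : Sylow p G), x ∈ Subgroup.normalizer ((R : Subgroup G) : Set G) → R = P := by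
    intro R hR
    have hle : (P : Subgroup G) ≤ Subgroup.normalizer ((R : Subgroup G) : Set G) :=
      hP ▸ Subgroup.zpowers_le.2 hR
    have h1 : (P : Subgroup G) ⊔ R ≤ R := by
      obtain ⟨m, hm⟩ := (P.2.to_sup_of_normal_right' R.2 hle).exists_card_eq
      have hm1 : m ≤ 1 := by
        by_contra h'
        exact h.sq ((pow_dvd_pow p (by omega : 2 ≤ m)).trans (hm ▸ Subgroup.card_subgroup_dvd_card _))
      refine (Subgroup.eq_of_le_of_card_ge le_sup_right ?_).ge
      rw [hm, R.card_eq_multiplicity, ← P.card_eq_multiplicity]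
      show p ^ m ≤ Nat.card (P : Subgroup G)
      rw [hPc]
      exact (pow_le_pow_right₀ hp.out.one_le hm1).trans_eq (pow_one p)
    exact Sylow.ext (Subgroup.eq_of_le_of_card_ge (le_sup_left.trans h1) (by
      show Nat.card (R : Subgroup G) ≤ Nat.card (P : Subgroup G)
      rw [R.card_eq_multiplicity, ← P.card_eq_multiplicity])).symm
  -- the number of Sylow subgroups
  have hsyl : Nat.card (Sylow p G) = p + 1 := by
    have h1 := card_sylow_modEq_one p G
    have h2 := card_sylow_le h
    have h3 : Nat.card (Sylow p G) ≠ 1 := by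
      intro h3
      haveI : Subsingleton (Sylow p G) := (Nat.card_eq_one_iff_unique.1 h3).1
      exact h.nn _ (Sylow.normal_of_subsingleton P) hPc
    obtain ⟨j, hj⟩ := (Nat.modEq_iff_dvd' (show 1 ≤ Nat.card (Sylow p G) from Nat.card_pos)).1 h1.symm
    have h4 := Nat.card_pos (α := Sylow p G)
    rcases j with _ | _ | j
    · omega
    · omega
    · have : p * 2 ≤ p * (j + 1 + 1) := Nat.mul_le_mul_left p (by omega)
      omega
  haveI : Fintype (Sylow p G) := Fintype.ofFinite _
  let f : G →* Equiv.Perm (Sylow p G) := MulAction.toPermHom G (Sylow p G)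
  have hfapp : ∀ g R, f g R = g • R := fun g R => rfl
  have hxker : f x ≠ 1 := by
    intro h1
    obtain ⟨R, hR⟩ : ∃ R, R ≠ P := by
      by_contra hall
      push Not at hall
      haveI : Subsingleton (Sylow p G) := ⟨fun a b => (hall a).trans (hall b).symm⟩
      rw [Nat.card_unique] at hsyl
      omega
    exact hR (huniq R (Sylow.smul_eq_iff_mem_normalizer.1 (Equiv.Perm.congr_fun h1 R)))
  have hker : f.ker = Subgroup.center G := by
    refine le_antisymm (fun k hk => ?_) fun z hz => ?_
    · refine mem_center_of_commute h fun g => ?_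
      have hn := (inferInstance : f.ker.Normal)
      have h1 := commute_of_normal h f.ker hn (fun hx => hxker (MonoidHom.mem_ker.1 hx))
        (g⁻¹ * k * g) (by simpa using hn.conj_mem k hk g⁻¹)
      show g * x * g⁻¹ * k = k * (g * x * g⁻¹)
      calc g * x * g⁻¹ * k = g * (x * (g⁻¹ * k * g)) * g⁻¹ := by group
        _ = g * ((g⁻¹ * k * g) * x) * g⁻¹ := by rw [h1.eq]
        _ = k * (g * x * g⁻¹) := by group
    · refine MonoidHom.mem_ker.2 (Equiv.ext fun R => ?_)
      rw [hfapp, Equiv.Perm.one_apply]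
      refine Sylow.smul_eq_iff_mem_normalizer.2 (Subgroup.mem_normalizer_iff.2 fun u => ?_)
      rw [← Subgroup.mem_center_iff.1 hz u, mul_inv_cancel_right]
  -- the centralizer of `x`
  obtain ⟨C, hC⟩ : ∃ C, C = Subgroup.centralizer ({x} : Set G) := ⟨_, rfl⟩
  have hCdec : ∀ c ∈ C, ∃ i : ℕ, ∃ z ∈ Subgroup.center G, i < p ∧ c = x ^ i * z := by
    intro c hc
    rw [hC, Subgroup.mem_centralizer_singleton_iff] at hc
    have hcx : Commute c x := hc
    obtain ⟨R, hR⟩ : ∃ R, R ≠ P := by
      by_contra hall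
      push Not at hall
      haveI : Subsingleton (Sylow p G) := ⟨fun a b => (hall a).trans (hall b).symm⟩
      rw [Nat.card_unique] at hsyl
      omega
    have hcP : c • P = P := Sylow.smul_eq_iff_mem_normalizer.2 (by
      refine Subgroup.centralizer_le_normalizer _ ?_
      rw [Subgroup.mem_centralizer_iff]
      intro y hy
      obtain ⟨j, rfl⟩ : y ∈ Subgroup.zpowers x := hP ▸ hy
      exact ((hcx.zpow_right j).eq).symm)
    have hxPs : x • P = P := Sylow.smul_eq_iff_mem_normalizer.2 (Subgroup.le_normalizer hxP)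
    let orb : Finset (Sylow p G) := (Finset.range p).image fun i => x ^ i • R
    have horb : orb = Finset.univ.erase P := by
      refine Finset.eq_of_subset_of_card_le (fun S hS => ?_) ?_
      · obtain ⟨i, -, rfl⟩ := Finset.mem_image.1 hS
        refine Finset.mem_erase.2 ⟨fun e => hR ?_, Finset.mem_univ _⟩
        have hPi : x ^ i • P = P := Sylow.smul_eq_iff_mem_normalizer.2
          (Subgroup.le_normalizer (pow_mem hxP i))
        exact MulAction.injective (x ^ i) (e.trans hPi.symm)
      · rw [Finset.card_erase_of_mem (Finset.mem_univ _), Finset.card_univ,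
          ← Nat.card_eq_fintype_card, hsyl, Finset.card_image_of_injOn, Finset.card_range,
          Nat.add_sub_cancel]
        intro i hi i' hi' hii
        simp only [Finset.coe_range, Set.mem_Iio] at hi hi'
        simp only at hii
        by_contra hne
        have hfix : x • R = R := by
          wlog hlt : i < i' generalizing i i'
          · refine this (i := i') (i' := i) ?_ ?_ ?_ ?_ ?_ <;>
              first | exact hii.symm | exact hi | exact hi' | exact Ne.symm hne | omega
          have hd : x ^ (i' - i) • R = R := by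
            refine MulAction.injective (x ^ i) ?_
            show x ^ i • x ^ (i' - i) • R = x ^ i • R
            rw [smul_smul, ← pow_add, Nat.add_sub_cancel' hlt.le, hii]
          have hcop : Nat.Coprime (i' - i) (orderOf x) := by
            rw [h.hx]
            exact (hp.out.coprime_iff_not_dvd.2 fun hd' => by
              have := Nat.le_of_dvd (by omega) hd'
              omega).symm
          obtain ⟨m, hm⟩ := exists_pow_eq_self_of_coprime hcop
          rw [← hm]
          exact MulAction.mem_stabilizer_iff.1 (pow_mem (MulAction.mem_stabilizer_iff.2 hd) m)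
        exact hR (huniq R (Sylow.smul_eq_iff_mem_normalizer.1 hfix))
    have hcR : c • R ∈ orb := by
      rw [horb]
      exact Finset.mem_erase.2 ⟨fun e => hR (MulAction.injective c (e.trans hcP.symm)),
        Finset.mem_univ _⟩
    obtain ⟨i, hi, hiR⟩ := Finset.mem_image.1 hcR
    refine ⟨i, (x ^ i)⁻¹ * c, ?_, Finset.mem_range.1 hi, by group⟩
    rw [← hker]
    refine MonoidHom.mem_ker.2 (Equiv.ext fun S => ?_)
    rw [hfapp, Equiv.Perm.one_apply]
    have hcomm : ∀ j : ℕ, Commute ((x ^ i)⁻¹ * c) (x ^ j) := fun j =>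
      (((Commute.refl x).pow_pow i j).inv_left).mul_left (hcx.pow_right j)
    by_cases hS : S = P
    · rw [hS, mul_smul, hcP]
      exact Sylow.smul_eq_iff_mem_normalizer.2 (Subgroup.le_normalizer (inv_mem (pow_mem hxP i)))
    · obtain ⟨j, -, rfl⟩ := Finset.mem_image.1 (horb ▸ Finset.mem_erase.2 ⟨hS, Finset.mem_univ S⟩ :
        S ∈ orb)
      rw [smul_smul, (hcomm j).eq, mul_smul, mul_smul, ← hiR, inv_smul_smul]
  have hxz : ∀ (j : ℕ) (z : G), z ∈ Subgroup.center G → x ^ j = z → j % p = 0 := by
    intro j z hz hjz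
    by_contra hne
    have hcop : Nat.Coprime j (orderOf x) := by
      rw [h.hx]
      exact (hp.out.coprime_iff_not_dvd.2 fun hd' => hne (Nat.mod_eq_zero_of_dvd hd')).symm
    obtain ⟨m, hm⟩ := exists_pow_eq_self_of_coprime hcop
    exact not_mem_center h (hm ▸ hjz ▸ pow_mem hz m)
  have hCcard : Nat.card C = p * Nat.card (Subgroup.center G) := by
    let F : Fin p × Subgroup.center G → C := fun w => ⟨x ^ (w.1 : ℕ) * w.2, by
      rw [hC, Subgroup.mem_centralizer_singleton_iff]
      exact (((Commute.refl x).pow_left w.1).mul_left (Subgroup.mem_center_iff.1 w.2.2 x).symm).eq⟩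
    have hF : Function.Bijective F := by
      refine ⟨fun w w' hw => ?_, fun c => ?_⟩
      · have h1 : x ^ (w.1 : ℕ) * w.2 = x ^ (w'.1 : ℕ) * w'.2 := congrArg Subtype.val hw
        have hij : (w.1 : ℕ) = w'.1 := by
          have hsplit : x ^ (w.1 : ℕ) * x ^ (p - (w'.1 : ℕ)) = (w'.2 : G) * (w.2 : G)⁻¹ := by
            have h2 : x ^ (w'.1 : ℕ) * x ^ (p - (w'.1 : ℕ)) = 1 := by
              rw [← pow_add, Nat.add_sub_cancel' w'.1.2.le, ← h.hx, pow_orderOf_eq_one]
            have e1 : x ^ (p - (w'.1 : ℕ)) * (x ^ (w.1 : ℕ) * w.2) = w'.2 := by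
              rw [h1, ← mul_assoc, ((Commute.refl x).pow_pow _ _).eq, h2, one_mul]
            rw [← mul_assoc, ((Commute.refl x).pow_pow _ _).eq] at e1
            exact eq_mul_inv_of_mul_eq e1
          rw [← pow_add] at hsplit
          have h3 := hxz _ _ (mul_mem w'.2.2 (inv_mem w.2.2)) hsplit
          obtain ⟨q, hq⟩ := Nat.dvd_of_mod_eq_zero h3
          have := w.1.2
          have := w'.1.2
          rcases q with _ | _ | q
          · omega
          · omega
          · have : p * 2 ≤ p * (q + 1 + 1) := Nat.mul_le_mul_left p (by omega)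
            omega
        refine Prod.ext (Fin.ext hij) (Subtype.ext (mul_left_cancel (a := x ^ (w.1 : ℕ)) ?_))
        rw [h1, hij]
      · obtain ⟨i, z, hz, hi, hcz⟩ := hCdec c c.2
        exact ⟨(⟨i, hi⟩, ⟨z, hz⟩), Subtype.ext hcz.symm⟩
    rw [← Nat.card_eq_of_bijective F hF, Nat.card_prod, Nat.card_eq_fintype_card, Fintype.card_fin]
  -- the automizer
  obtain ⟨N, hN⟩ : ∃ N, N = Subgroup.normalizer ((P : Subgroup G) : Set G) := ⟨_, rfl⟩
  have hCN : C ≤ N := by
    rw [hC, hN]
    intro c hc
    refine Subgroup.centralizer_le_normalizer _ ?_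
    rw [Subgroup.mem_centralizer_iff]
    intro y hy
    obtain ⟨j, rfl⟩ : y ∈ Subgroup.zpowers x := hP ▸ hy
    exact (((show Commute c x from Subgroup.mem_centralizer_singleton_iff.1 hc).zpow_right j).eq).symm
  obtain ⟨e, he0, hen, he⟩ := CfsgLib.SmallDegree.exists_automizer_bound h.hx ⟨n, σ, rfl⟩
    (fun h1 => by
      have := apply_eq_one_of_character_eq σ (g := x) (by rw [h1, Representation.char_one])
      exact not_mem_center h (h.inj (this.trans (map_one σ).symm) ▸ one_mem _))
    (n := n) (by rw [Representation.char_one, Module.finrank_fin_fun])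
  have hexN : ∀ g : N, ∃ a : ZMod p, (g : G) * x * (g : G)⁻¹ = x ^ a.val := fun g => by
    have h1 : (g : G) * x * (g : G)⁻¹ ∈ Subgroup.zpowers x := hP ▸
      (Subgroup.mem_normalizer_iff.1 (hN ▸ g.2) x).1 hxP
    rw [← mem_powers_iff_mem_zpowers, Submonoid.mem_powers_iff] at h1
    obtain ⟨i, hi⟩ := h1
    exact ⟨(i : ZMod p), by rw [ZMod.val_natCast, ← h.hx, pow_mod_orderOf, hi]⟩
  choose a ha using hexN
  obtain ⟨d, hd⟩ : ∃ d, C.relIndex N = d := ⟨_, rfl⟩
  have hde : d ≤ e := by
    rw [← hd, Subgroup.relIndex, Subgroup.index_eq_card]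
    let φ : N ⧸ C.subgroupOf N → (Polynomial.nthRoots e (1 : ZMod p)).toFinset := fun q =>
      ⟨a q.out, by
        rw [Multiset.mem_toFinset, Polynomial.mem_nthRoots he0]
        exact he _ ⟨_, ha q.out⟩⟩
    have hφ : Function.Injective φ := fun q q' hqq => by
      have h1 : a q.out = a q'.out := congrArg Subtype.val hqq
      have h2 := ha q.out
      rw [h1, ← ha q'.out] at h2
      rw [← QuotientGroup.out_eq' q, ← QuotientGroup.out_eq' q', QuotientGroup.eq,
        Subgroup.mem_subgroupOf]
      suffices hmem : ((q.out⁻¹ * q'.out : N) : G) ∈ Subgroup.centralizer ({x} : Set G) from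
        hC.symm ▸ hmem
      rw [Subgroup.mem_centralizer_singleton_iff]
      push_cast
      calc (q.out : G)⁻¹ * q'.out * x = (q.out : G)⁻¹ * ((q'.out : G) * x * (q'.out : G)⁻¹) * q'.out := by
            group
        _ = (q.out : G)⁻¹ * ((q.out : G) * x * (q.out : G)⁻¹) * q'.out := by rw [h2]
        _ = x * ((q.out : G)⁻¹ * q'.out) := by group
    refine (Nat.card_le_card_of_injective φ hφ).trans ?_
    rw [Nat.card_eq_fintype_card, Fintype.card_coe]
    exact (Multiset.toFinset_card_le _).trans (Polynomial.card_nthRoots e 1)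
  have hGcard : Nat.card G = (p + 1) * (p * Nat.card (Subgroup.center G) * d) := by
    have hidx : N.index = p + 1 := by
      rw [hN, ← hsyl]; exact P.card_eq_index_normalizer.symm
    rw [← hidx, ← hCcard, ← hd, mul_comm]
    rw [Subgroup.relIndex, show Nat.card C = Nat.card (C.subgroupOf N) from
      (Nat.card_congr (Subgroup.subgroupOfEquivOfLe hCN).toEquiv).symm, Subgroup.card_mul_index,
      Subgroup.card_mul_index]
  obtain ⟨R, hRdef⟩ : ∃ R, R = f.range := ⟨_, rfl⟩
  subst hRdef
  let eG : (G ⧸ Subgroup.center G) ≃* f.range :=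
    (QuotientGroup.quotientMulEquivOfEq hker.symm).trans (QuotientGroup.quotientKerEquivRange f)
  haveI : MulAction.IsPretransitive f.range (Sylow p G) := ⟨fun R S => by
    obtain ⟨g, hg⟩ := MulAction.exists_smul_eq G R S
    exact ⟨⟨f g, g, rfl⟩, hg⟩⟩
  have hα : Fintype.card (Sylow p G) = p + 1 := by rw [← Nat.card_eq_fintype_card, hsyl]
  have hR : Nat.card f.range = (p + 1) * p * d := by
    refine Nat.eq_of_mul_eq_mul_right (Nat.card_pos (α := Subgroup.center G)) ?_
    rw [← Nat.card_congr eG.toEquiv,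
      ← Subgroup.card_eq_card_quotient_mul_card_subgroup (Subgroup.center G), hGcard]
    ring
  rcases Cfsg.Agent.S0732.result hp.out hα f.range hR (by omega) with
    ⟨h1, -⟩ | ⟨-, ⟨e1⟩⟩ | ⟨q, hq, hq2, -, em, hem⟩
  · omega
  · exact ⟨eG.trans e1⟩
  · exfalso
    haveI : Finite (GaloisField 2 q) := Finite.of_equiv _ em
    refine not_solvable h (solvable_of_semiaffine
      ((em.permCongrHom.toMonoidHom).comp f) (fun g hg => ?_) fun g => hem ⟨f g, g, rfl⟩)
    rw [← hker]
    exact MonoidHom.mem_ker.2 (em.permCongrHom.injective (hg.trans (map_one _).symm))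

end CfsgLib.HalfDegree
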