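import Cfsg.Agent.HalfDegree.Core
import Cfsg.Agent.GreenThree.Plane
import Cfsg.Agent.GreenThree.End

/-!
# At most `p + 1` Sylow subgroups
-/

set_option autoImplicit false
set_option linter.unusedSectionVars false
set_option linter.style.haveILetI false

namespace CfsgLib.HalfDegree

open CfsgLib.Char Polynomial

universe u

variable {G : Type u} [Group G] [Finite G] {p : ℕ} [hp : Fact p.Prime]

/-- A normal `p`-subgroup is trivial. -/
theorem eq_bot_of_isPGroup {x : G} {n : ℕ} {σ : Representation ℂ G (Fin n → ℂ)} (h : Hyp p x σ)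
    {K : Subgroup G} (hK : K.Normal) (hKp : IsPGroup p K) : K = ⊥ := by
  obtain ⟨m, hm⟩ := hKp.exists_card_eq
  have hm1 : m ≤ 1 := by
    by_contra hlt
    exact h.sq ((pow_dvd_pow p (by omega : 2 ≤ m)).trans (hm ▸ Subgroup.card_subgroup_dvd_card _))
  interval_cases m
  · exact Subgroup.eq_bot_of_card_eq _ (by rw [hm, pow_zero])
  · exact absurd (by rw [hm, pow_one]) (h.nn K hK)

/-- The cyclic group of `x` is a Sylow subgroup. -/
theorem exists_sylow {x : G} {n : ℕ} {σ : Representation ℂ G (Fin n → ℂ)} (h : Hyp p x σ) :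
    ∃ P : Sylow p G, (P : Subgroup G) = Subgroup.zpowers x := by
  obtain ⟨P, hP⟩ := (IsPGroup.of_card (n := 1) (by rw [Nat.card_zpowers, h.hx, pow_one]) :
    IsPGroup p (Subgroup.zpowers x)).exists_le_sylow
  refine ⟨P, (Subgroup.eq_of_le_of_card_ge hP ?_).symm⟩
  obtain ⟨m, hm⟩ := P.2.exists_card_eq
  have hm1 : m ≤ 1 := by
    by_contra hlt
    exact h.sq ((pow_dvd_pow p (by omega : 2 ≤ m)).trans (hm ▸ Subgroup.card_subgroup_dvd_card _))
  rw [hm, Nat.card_zpowers, h.hx]
  exact (pow_le_pow_right₀ hp.out.one_le hm1).trans_eq (pow_one p)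

/-- **At most `p + 1` Sylow subgroups.** -/
theorem card_sylow_le {x : G} {n : ℕ} {σ : Representation ℂ G (Fin n → ℂ)} (h : Hyp p x σ) :
    Nat.card (Sylow p G) ≤ p + 1 := by
  classical
  obtain ⟨P, hP⟩ := exists_sylow h
  have hG : ∀ K : Subgroup G, K.Normal → x ∉ K → ∀ k ∈ K, Commute x k := fun K hK hxK =>
    commute_of_normal h K hK hxK
  have hdeg := h.deg
  have hp5 := h.p5
  rcases Nat.lt_or_ge p 7 with hp7 | hp7
  · have hp5' : p = 5 := by omega
    obtain ⟨A, hA⟩ := CfsgLib.GreenThree.exists_valuationSubring p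
    haveI := hA
    obtain ⟨ρ, hker⟩ := CfsgLib.GreenThree.exists_model (p := p) A σ h.inj
    have hρx : ρ x ≠ 1 := by
      intro h1
      have hKp : IsPGroup p (MonoidHom.ker ρ) := fun g => by
        refine ⟨(orderOf (g : G)).factorization p, Subtype.ext ?_⟩
        rw [SubmonoidClass.coe_pow, OneMemClass.coe_one]
        refine hker _ ?_ (by rw [map_pow, MonoidHom.mem_ker.1 g.2, one_pow])
        rw [orderOf_pow' _ (pow_ne_zero _ hp.out.ne_zero),
          Nat.gcd_eq_right (Nat.ordProj_dvd (orderOf (g : G)) p)]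
        exact (Nat.coprime_ordCompl hp.out (orderOf_pos (g : G)).ne').symm
      have hbot := eq_bot_of_isPGroup h (MonoidHom.normal_ker ρ) hKp
      have := (Subgroup.eq_bot_iff_forall _).1 hbot x (MonoidHom.mem_ker.2 h1)
      have hx := h.hx
      rw [this, orderOf_one] at hx
      exact hp.out.one_lt.ne hx
    obtain ⟨N, hN⟩ : ∃ N, N = ρ x - 1 := ⟨_, rfl⟩
    have hNp : N ^ p = 0 := by
      have h1 : ((X - 1 : (IsLocalRing.ResidueField A)[X])) ^ p = X ^ p - 1 := by
        rw [sub_pow_char, one_pow]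
      have h2 := congrArg (aeval (ρ x)) h1
      simp only [map_pow, map_sub, aeval_X, map_one] at h2
      rw [hN, h2, ← map_pow, ← h.hx, pow_orderOf_eq_one, map_one, sub_self]
    have hNn : N ^ n = 0 := by
      have h1 := Module.End.ker_pow_le_ker_pow_finrank N p
      rw [hNp, Module.finrank_fin_fun, LinearMap.ker_zero] at h1
      exact LinearMap.ker_eq_top.1 (top_le_iff.1 h1)
    refine CfsgLib.GreenThree.card_sylow_le_of_plane (by omega) h.hx P hP hG ρ
      (by rw [Module.finrank_fin_fun]; omega) ?_ hρx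
    rw [← hN, ← sq, show 2 = n by omega, hNn]
  · obtain ⟨V, _, _, _, ρ, hr, hker⟩ := CfsgLib.SmallDegree.exists_reduction (by omega) σ h.inj h.hx
    refine CfsgLib.GreenThree.card_sylow_le_of_nilpotent hp7 h.hx P hP hG ρ hr (by omega) fun h1 => ?_
    have hbot := eq_bot_of_isPGroup h (MonoidHom.normal_ker ρ) hker
    have := (Subgroup.eq_bot_iff_forall _).1 hbot x (MonoidHom.mem_ker.2 h1)
    have hx := h.hx
    rw [this, orderOf_one] at hx
    exact hp.out.one_lt.ne hx

end CfsgLib.HalfDegree
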